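import Cfsg.Agent.H634.OneP.Def
import Cfsg.Agent.H686.K4.Integral

/-!
# B4 of S4880: second and third main theorem modulo the maximal ideal of `V`
-/

set_option autoImplicit false

open Cfsg IsLocalRing

namespace Cfsg.Agent.H648.OneP

open Cfsg.Agent.H634.OneP Cfsg.Agent.H657 Cfsg.Agent.Characters.Core Cfsg.Agent.Blocks Cfsg.Agent.Blocks.Basic
  Cfsg.Agent.Blocks.Local Cfsg.Agent.H686.K4

universe u

variable {G : Type u} [Group G] [Finite G] {p : ℕ} [hp : Fact p.Prime] {M : Ideal AlgInt}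
  {V : ValuationSubring ℂ}

theorem mem_of_integral (hV : Above M V) {z : ℂ} (hz : IsIntegral ℤ z) : z ∈ V :=
  hV.mem ⟨z, hz⟩

/-- a `p`-power root of unity reduces to `1` -/
theorem residue_eq_one (hM : IsPModular p M) (hV : Above M V) {k : ℕ} (c : V) (hc : (c : ℂ) ^ p ^ k = 1) :
    residue V c = 1 := by
  have hch := hV.charP hM
  have h1 : c ^ p ^ k = 1 := Subtype.ext (by push_cast; exact hc)
  have h2 : residue V c ^ p ^ k = 1 := by rw [← map_pow, h1, map_one]
  have := ExpChar.prime (R := ResidueField V) hp.out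
  have h3 := (ExpChar.pow_prime_pow_mul_eq_one_iff p k 1 (residue V c)).1 (by rw [mul_one]; exact h2)
  rwa [pow_one] at h3

/-- B4. Second and third main theorem modulo `V`. -/
theorem section_mod (hM : IsPModular p M) (hV : Above M V) {x : G} (hx : ∃ k : ℕ, orderOf x = p ^ k)
    (χ : IrrCharacter G) :
    ∃ m : IrrCharacter (Subgroup.centralizer ({x} : Set G)) → ℕ,
      (∀ c : Subgroup.centralizer ({x} : Set G), (χ : G → ℂ) c =
        ∑ᶠ ψ : IrrCharacter (Subgroup.centralizer ({x} : Set G)),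
          (m ψ : ℂ) * (ψ : Subgroup.centralizer ({x} : Set G) → ℂ) c) ∧
      ∀ s : Subgroup.centralizer ({x} : Set G), ¬ p ∣ orderOf s →
        (χ ∈ principalBlock M G →
          ∑ᶠ ψ ∈ principalBlock M (Subgroup.centralizer ({x} : Set G)),
            (m ψ : ResidueField V) * rd V (ψ : Subgroup.centralizer ({x} : Set G) → ℂ) s =
              rd V (χ : G → ℂ) s) ∧
        (χ ∉ principalBlock M G →
          ∑ᶠ ψ ∈ principalBlock M (Subgroup.centralizer ({x} : Set G)),
            (m ψ : ResidueField V) * rd V (ψ : Subgroup.centralizer ({x} : Set G) → ℂ) s = 0) := by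
  classical
  have hMp := isPrime_of_isPModular hM
  have := Fintype.ofFinite G
  set C := Subgroup.centralizer ({x} : Set G) with hC
  have := Fintype.ofFinite C
  have := finite_irr (G := C)
  have := Fintype.ofFinite (IrrCharacter C)
  have hxC : x ∈ C := Subgroup.mem_centralizer_singleton_iff.2 rfl
  have hz : (⟨x, hxC⟩ : C) ∈ Subgroup.center C := by
    rw [Subgroup.mem_center_iff]
    intro g
    exact Subtype.ext (Subgroup.mem_centralizer_singleton_iff.1 g.2)
  have hsum := fun (y : C) (hy : ¬ p ∣ orderOf y) => CentralizerSum.sum_components hM x hx hC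
    PrincipalSection.isPBlock_principalBlock (A := principalBlock M C)
    (PrincipalSection.mem_principalBlock_iff_induced hM x hx hC) y hy χ
  have hchar : IsCharacter C (fun c : C => (χ : G → ℂ) (c : G)) :=
    isCharacter_comp C.subtype (isIrr_isCharacter χ.2)
  obtain ⟨m, hm⟩ := isCharacter_iff.1 hchar
  have hm' : ∀ c : C, (χ : G → ℂ) (c : G) = ∑ ψ : IrrCharacter C, (m ψ : ℂ) * (ψ : C → ℂ) c := by
    intro c
    have := congrFun hm c
    rw [Finset.sum_apply] at this
    rw [this]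
    exact Finset.sum_congr rfl fun ψ _ => by rw [Pi.smul_apply, nsmul_eq_mul]
  choose c hc1 hc2 using fun ξ : IrrCharacter C => exists_scalar_integral ξ.2 hz
  -- the coefficients of the translate
  have hcoef : ∀ ψ : IrrCharacter C,
      classInner (fun c : C => (χ : G → ℂ) (x * (c : G))) (ψ : C → ℂ) = (m ψ : ℂ) * c ψ := by
    intro ψ
    have h1 : (fun g : C => (χ : G → ℂ) (x * (g : G))) =
        ∑ ξ : IrrCharacter C, ((m ξ : ℂ) * c ξ) • (ξ : C → ℂ) := by
      funext g
      have h2 := hm' (⟨x, hxC⟩ * g)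
      rw [Subgroup.coe_mul] at h2
      change (χ : G → ℂ) (x * (g : G)) = _
      rw [h2, Finset.sum_apply]
      refine Finset.sum_congr rfl fun ξ _ => ?_
      rw [Pi.smul_apply, hc2, smul_eq_mul, mul_assoc]
    rw [h1, classInner_sum_smul_irr]
  -- the scalars reduce to `1`
  obtain ⟨k, hk⟩ := hx
  have hcpow : ∀ ψ : IrrCharacter C, c ψ ^ p ^ k = 1 := by
    intro ψ
    have h1 : ∀ n : ℕ, (ψ : C → ℂ) ((⟨x, hxC⟩ : C) ^ n) = c ψ ^ n * (ψ : C → ℂ) 1 := by
      intro n
      induction n with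
      | zero => simp
      | succ n ih => rw [pow_succ', hc2, ih, pow_succ']; ring
    have h2 : (⟨x, hxC⟩ : C) ^ p ^ k = 1 := by
      apply Subtype.ext
      rw [Subgroup.coe_pow, Subgroup.coe_one, ← hk]
      exact pow_orderOf_eq_one x
    have h3 := h1 (p ^ k)
    rw [h2] at h3
    have h4 := isIrr_apply_one_ne_zero ψ.2
    exact mul_right_cancel₀ h4 (by rw [← h3, one_mul])
  have hcV : ∀ ψ : IrrCharacter C, c ψ ∈ V := fun ψ => mem_of_integral hV (hc1 ψ)
  have hcr : ∀ ψ : IrrCharacter C, residue V ⟨c ψ, hcV ψ⟩ = 1 := fun ψ =>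
    residue_eq_one hM hV ⟨c ψ, hcV ψ⟩ (hcpow ψ)
  have hψV : ∀ (ψ : IrrCharacter C) (s : C), (ψ : C → ℂ) s ∈ V := fun ψ s =>
    mem_of_integral hV (Blocks.Central.isIntegral_irr ψ.2 s)
  have hχV : ∀ g : G, (χ : G → ℂ) g ∈ V := fun g => mem_of_integral hV (Blocks.Central.isIntegral_irr χ.2 g)
  have hfs : ∀ f : IrrCharacter C → ResidueField V, ∑ᶠ ψ ∈ principalBlock M C, f ψ =
      ∑ ψ with ψ ∈ principalBlock M C, f ψ := by
    intro f
    rw [finsum_mem_def, finsum_eq_sum_of_fintype, Finset.sum_filter]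
    exact Finset.sum_congr rfl fun ψ _ => Set.indicator_apply _ _ _
  refine ⟨m, fun s => by rw [finsum_eq_sum_of_fintype]; exact hm' s, fun s hs => ?_⟩
  have h1 := hsum s hs
  have hred : residue V (∑ ψ with ψ ∈ principalBlock M C, (m ψ : V) * ⟨c ψ, hcV ψ⟩ * ⟨(ψ : C → ℂ) s, hψV ψ s⟩) =
      ∑ᶠ ψ ∈ principalBlock M C, (m ψ : ResidueField V) * rd V (ψ : C → ℂ) s := by
    rw [hfs, map_sum]
    refine Finset.sum_congr rfl fun ψ _ => ?_
    rw [map_mul, map_mul, hcr, mul_one, map_natCast, rd_of (hψV ψ s)]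
  have hval : ((∑ ψ with ψ ∈ principalBlock M C, (m ψ : V) * ⟨c ψ, hcV ψ⟩ * ⟨(ψ : C → ℂ) s, hψV ψ s⟩ : V) : ℂ) =
      if χ ∈ principalBlock M G then (χ : G → ℂ) (x * (s : G)) else 0 := by
    rw [← h1]
    push_cast
    exact Finset.sum_congr rfl fun ψ _ => by rw [hcoef]
  -- the values at `x s` and `s` agree modulo `V`
  have htrans : residue V ⟨(χ : G → ℂ) (x * (s : G)), hχV _⟩ = residue V ⟨(χ : G → ℂ) (s : G), hχV _⟩ := by
    have e1 : (⟨(χ : G → ℂ) (x * (s : G)), hχV _⟩ : V) =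
        ∑ ψ : IrrCharacter C, (m ψ : V) * ⟨c ψ, hcV ψ⟩ * ⟨(ψ : C → ℂ) s, hψV ψ s⟩ := by
      apply Subtype.ext
      push_cast
      have h2 := hm' (⟨x, hxC⟩ * s)
      rw [Subgroup.coe_mul] at h2
      rw [h2]
      exact Finset.sum_congr rfl fun ξ _ => by rw [hc2, mul_assoc]
    have e2 : (⟨(χ : G → ℂ) (s : G), hχV _⟩ : V) =
        ∑ ψ : IrrCharacter C, (m ψ : V) * ⟨(ψ : C → ℂ) s, hψV ψ s⟩ := by
      apply Subtype.ext
      push_cast
      exact hm' s
    rw [e1, e2, map_sum, map_sum]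
    refine Finset.sum_congr rfl fun ψ _ => ?_
    rw [map_mul, map_mul, map_mul, hcr, mul_one]
  constructor
  · intro hχ
    rw [if_pos hχ] at hval
    rw [← hred, rd_of (hχV s), ← htrans]
    congr 1
    exact Subtype.ext hval
  · intro hχ
    rw [if_neg hχ] at hval
    rw [← hred]
    have : (∑ ψ with ψ ∈ principalBlock M C, (m ψ : V) * ⟨c ψ, hcV ψ⟩ * ⟨(ψ : C → ℂ) s, hψV ψ s⟩ : V) = 0 :=
      Subtype.ext hval
    rw [this, map_zero]

end Cfsg.Agent.H648.OneP
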